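import Groth.Agent.ConsPropLib.FibreLocFreeRank
import Groth.Agent.TFOneX.Beta
import Groth.Agent.QCoh.Pullback

/-!
# Rank conditions on affine opens
-/

set_option autoImplicit false
set_option linter.style.haveILetI false
set_option backward.isDefEq.respectTransparency false
set_option backward.isDefEq.respectTransparency.types false

universe u

open CategoryTheory CategoryTheory.Limits AlgebraicGeometry TopologicalSpace Opposite

namespace Groth.Agent.StratX

/-- `M` is finite projective of rank `r`. -/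
def IsProjRank (R : Type u) [CommRing R] (r : ℕ) (M : Type u) [AddCommGroup M] [Module R M] : Prop :=
  Module.Finite R M ∧ Module.Projective R M ∧ ∀ x, Module.rankAtStalk (R := R) M x = r

theorem IsProjRank.of_equiv {R : Type u} [CommRing R] {r : ℕ} {M N : Type u} [AddCommGroup M] [Module R M]
    [AddCommGroup N] [Module R N] (e : M ≃ₗ[R] N) (h : IsProjRank R r M) : IsProjRank R r N := by
  obtain ⟨h₁, h₂, h₃⟩ := h
  haveI := h₁; haveI := h₂
  exact ⟨Module.Finite.equiv e, Module.Projective.of_equiv e,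
    fun x => (congrFun (Module.rankAtStalk_eq_of_equiv e) x).symm.trans (h₃ x)⟩

variable {T : Scheme.{u}}

theorem isFinLocFreeOfRank_fromSpec_iff {r : ℕ} {G : T.Modules} :
    FlatMod.IsFinLocFreeOfRank r G ↔
      ∀ (W : T.Opens) (hW : IsAffineOpen W), FlatMod.IsFinLocFreeOfRank r (G.restrict hW.fromSpec) := by
  refine ⟨fun h W hW => ?_, fun h => ?_⟩
  · exact (ConsPropLib.isFinLocFreeOfRank_iso ((Scheme.Modules.restrictFunctorIsoPullback hW.fromSpec).app G)).2
      (TFOneX.isFinLocFreeOfRank_pullback hW.fromSpec h)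
  · refine ConsPropLib.isFinLocFreeOfRank_of_cover (J := T.affineOpens) (fun W => W.2.fromSpec) (fun x => ?_)
      fun W => h W.1 W.2
    obtain ⟨_, ⟨W, hW, rfl⟩, hx, -⟩ := T.isBasis_affineOpens.exists_subset_of_mem_open (Set.mem_univ x) isOpen_univ
    exact ⟨⟨W, hW⟩, by rw [IsAffineOpen.range_fromSpec]; exact hx⟩

/-- Sections over affine opens detect locally free sheaves of given rank. -/
theorem isFinLocFreeOfRank_iff_sections {r : ℕ} {G : T.Modules} (hG : Coh.IsQCoh G) :
    FlatMod.IsFinLocFreeOfRank r G ↔ ∀ W : T.Opens, IsAffineOpen W → IsProjRank Γ(T, W) r Γ(G, W) := by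
  rw [isFinLocFreeOfRank_fromSpec_iff]
  refine forall₂_congr fun W hW => ?_
  let N := G.restrict hW.fromSpec
  haveI : IsIso N.fromTildeΓ := (isQuasicoherent_iff_isIso_fromTildeΓ N).1 (QCoh.isQCoh_restrict hW.fromSpec hG)
  rw [← ConsPropLib.isFinLocFreeOfRank_iso (asIso N.fromTildeΓ), ConsPropLib.isFinLocFreeOfRank_tilde_iff]
  exact ⟨fun h => IsProjRank.of_equiv (QCoh.chartEquiv hW G).symm h,
    fun h => IsProjRank.of_equiv (QCoh.chartEquiv hW G) h⟩

/-- A pullback of `tilde Q` being locally free of rank `r`, on affine opens. -/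
theorem isFinLocFreeOfRank_pullback_tilde_iff {R : CommRingCat.{u}} (Q : ModuleCat.{u} R) (u : T ⟶ Spec R) (r : ℕ) :
    FlatMod.IsFinLocFreeOfRank r ((Scheme.Modules.pullback u).obj (tilde Q)) ↔
      ∀ (W : T.Opens) (hW : IsAffineOpen W) (χ : R ⟶ Γ(T, W)), Spec.map χ = hW.fromSpec ≫ u →
        IsProjRank Γ(T, W) r ((ModuleCat.extendScalars χ.hom).obj Q) := by
  rw [isFinLocFreeOfRank_fromSpec_iff]
  refine forall₂_congr fun W hW => ?_
  have key : ∀ χ : R ⟶ Γ(T, W), Spec.map χ = hW.fromSpec ≫ u →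
      (FlatMod.IsFinLocFreeOfRank r (((Scheme.Modules.pullback u).obj (tilde Q)).restrict hW.fromSpec) ↔
        IsProjRank Γ(T, W) r ((ModuleCat.extendScalars χ.hom).obj Q)) := fun χ hχ => by
    let E : ((Scheme.Modules.pullback u).obj (tilde Q)).restrict hW.fromSpec ≅
        tilde ((ModuleCat.extendScalars χ.hom).obj Q) :=
      (Scheme.Modules.restrictFunctorIsoPullback hW.fromSpec).app _ ≪≫
        (Scheme.Modules.pullbackComp hW.fromSpec u).app _ ≪≫ (Scheme.Modules.pullbackCongr hχ.symm).app _ ≪≫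
        (QCoh.tildePullbackIso χ).app Q
    rw [ConsPropLib.isFinLocFreeOfRank_iso E]
    exact ConsPropLib.isFinLocFreeOfRank_tilde_iff _ r
  exact ⟨fun h χ hχ => (key χ hχ).1 h,
    fun h => (key _ (Spec.map_preimage _)).2 (h _ (Spec.map_preimage _))⟩

end Groth.Agent.StratX
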