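import Groth.Agent.StratX.Affine
import Groth.Agent.LocRepX.Sub
import Groth.Agent.S10847
import Groth.Agent.QCoh.SpecFT
import Groth.Agent.QCoh.ModelGamma
import Groth.Agent.QCoh.LocalExchange
import Mathlib.AlgebraicGeometry.Morphisms.FinitePresentation

/-!
# The stratum where the direct image is locally free of given rank, compatibly with base change
-/

set_option autoImplicit false
set_option linter.style.haveILetI false
set_option linter.unusedSectionVars false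
set_option backward.isDefEq.respectTransparency false
set_option backward.isDefEq.respectTransparency.types false
set_option maxHeartbeats 2000000

universe u

open CategoryTheory CategoryTheory.Limits AlgebraicGeometry TopologicalSpace Opposite

namespace Groth.Agent.StratX

open Groth.Agent CohPullX

variable {X S : Scheme.{u}} (f : X ⟶ S) (M : X.Modules) (r : ℕ)

/-- A finite module over a noetherian ring describing the condition over `V`. -/
structure Chart (V : S.affineOpens) where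
  A : CommRingCat.{u}
  noeth : IsNoetherianRing A
  φ : A ⟶ Γ(S, V.1)
  Q : ModuleCat.{u} A
  fin : Module.Finite A Q
  toW : ∀ ⦃T XT : Scheme.{u}⦄ {u : T ⟶ S} {fT : XT ⟶ T} {gT : XT ⟶ X}, IsPullback gT fT f u → ∀ {W : T.Opens},
    IsAffineOpen W → ∀ hle : W ≤ u ⁻¹ᵁ V.1, Cond M r fT gT →
    IsProjRank Γ(T, W) r ((ModuleCat.extendScalars (φ ≫ u.appLE V.1 W hle).hom).obj Q)
  ofW : ∀ ⦃T XT : Scheme.{u}⦄ {u : T ⟶ S} {fT : XT ⟶ T} {gT : XT ⟶ X}, IsPullback gT fT f u → ∀ {W : T.Opens},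
    IsAffineOpen W → ∀ hle : W ≤ u ⁻¹ᵁ V.1,
    IsProjRank Γ(T, W) r ((ModuleCat.extendScalars (φ ≫ u.appLE V.1 W hle).hom).obj Q) →
    IsProjRank Γ(T, W) r Γ((Scheme.Modules.pushforward fT).obj ((Scheme.Modules.pullback gT).obj M), W) ∧
      HasKerBC fT ((Scheme.Modules.pullback gT).obj M) W
  rank : ∀ (y : S) (hy : y ∈ V.1), CohIII.fiberRank f M 0 y =
    Module.finrank (S.residueField y) ((ModuleCat.extendScalars (φ ≫ S.evaluation V.1 y hy).hom).obj Q)

variable {f M r}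

namespace Chart

variable {V : S.affineOpens} (C : Chart f M r V)

/-- The map to the noetherian base. -/
noncomputable def c : (V.1 : Scheme.{u}) ⟶ Spec C.A := V.2.isoSpec.hom ≫ Spec.map C.φ

/-- The module pulled back along `v` is locally free of rank `r`. -/
def Good {T : Scheme.{u}} (v : T ⟶ (V.1 : Scheme.{u})) : Prop :=
  FlatMod.IsFinLocFreeOfRank r ((Scheme.Modules.pullback (v ≫ C.c)).obj (tilde C.Q))

theorem good_comp {T T' : Scheme.{u}} (a : T' ⟶ T) (v : T ⟶ (V.1 : Scheme.{u})) (h : C.Good v) : C.Good (a ≫ v) :=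
  (ConsPropLib.isFinLocFreeOfRank_iso ((Scheme.Modules.pullbackComp a (v ≫ C.c)).app _ ≪≫
    (Scheme.Modules.pullbackCongr (Category.assoc a v C.c).symm).app _)).1 (TFOneX.isFinLocFreeOfRank_pullback a h)

theorem good_of_cover {T : Scheme.{u}} {J : Type*} {Z : J → Scheme.{u}} (j : ∀ i, Z i ⟶ T) [∀ i, IsOpenImmersion (j i)]
    (hc : ∀ x, ∃ i, x ∈ Set.range (j i)) (v : T ⟶ (V.1 : Scheme.{u})) (h : ∀ i, C.Good (j i ≫ v)) : C.Good v :=
  ConsPropLib.isFinLocFreeOfRank_of_cover j hc fun i =>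
    (ConsPropLib.isFinLocFreeOfRank_iso ((Scheme.Modules.restrictFunctorIsoPullback (j i)).app _ ≪≫
      (Scheme.Modules.pullbackComp (j i) (v ≫ C.c)).app _ ≪≫
      (Scheme.Modules.pullbackCongr (Category.assoc (j i) v C.c).symm).app _)).2 (h i)

theorem good_restrict_iff {T : Scheme.{u}} (u : T ⟶ S) :
    C.Good (u ∣_ V.1) ↔ ∀ (W : T.Opens), IsAffineOpen W → ∀ hle : W ≤ u ⁻¹ᵁ V.1,
      IsProjRank Γ(T, W) r ((ModuleCat.extendScalars (C.φ ≫ u.appLE V.1 W hle).hom).obj C.Q) := by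
  have key : ∀ (W : T.Opens) (hW : IsAffineOpen W) (hle : W ≤ u ⁻¹ᵁ V.1) (b : Spec Γ(T, W) ⟶ (u ⁻¹ᵁ V.1 : T.Opens)),
      b ≫ (u ⁻¹ᵁ V.1).ι = hW.fromSpec →
      (C.Good (b ≫ u ∣_ V.1) ↔
        IsProjRank Γ(T, W) r ((ModuleCat.extendScalars (C.φ ≫ u.appLE V.1 W hle).hom).obj C.Q)) := by
    intro W hW hle b hb
    have h1 : Spec.map (u.appLE V.1 W hle) ≫ V.2.isoSpec.inv = b ≫ u ∣_ V.1 := by
      rw [← cancel_mono V.1.ι, Category.assoc, Category.assoc, morphismRestrict_ι, reassoc_of% hb]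
      exact V.2.SpecMap_appLE_fromSpec u hW hle
    have h2 : Spec.map (C.φ ≫ u.appLE V.1 W hle) = (b ≫ u ∣_ V.1) ≫ C.c := by
      rw [← h1, Spec.map_comp, c, Category.assoc, Iso.inv_hom_id_assoc]
    refine (ConsPropLib.isFinLocFreeOfRank_iso ((Scheme.Modules.pullbackCongr h2.symm).app _ ≪≫
      (QCoh.tildePullbackIso (C.φ ≫ u.appLE V.1 W hle)).app C.Q)).trans ?_
    exact ConsPropLib.isFinLocFreeOfRank_tilde_iff _ r
  have hrange : ∀ (W : T.Opens) (hW : IsAffineOpen W), W ≤ u ⁻¹ᵁ V.1 →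
      Set.range hW.fromSpec ⊆ Set.range (u ⁻¹ᵁ V.1).ι := fun W hW hle => by
    rw [hW.range_fromSpec, Scheme.Opens.range_ι]
    exact hle
  refine ⟨fun h W hW hle => (key W hW hle _ (IsOpenImmersion.lift_fac _ _ (hrange W hW hle))).1
    (C.good_comp _ _ h), fun h => ?_⟩
  let J := {W : T.affineOpens // W.1 ≤ u ⁻¹ᵁ V.1}
  haveI : ∀ W : J, IsOpenImmersion (IsOpenImmersion.lift (u ⁻¹ᵁ V.1).ι W.1.2.fromSpec (hrange _ W.1.2 W.2)) := fun W => by
    haveI : IsOpenImmersion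
        (IsOpenImmersion.lift (u ⁻¹ᵁ V.1).ι W.1.2.fromSpec (hrange _ W.1.2 W.2) ≫ (u ⁻¹ᵁ V.1).ι) := by
      rw [IsOpenImmersion.lift_fac]
      infer_instance
    exact IsOpenImmersion.of_comp _ (u ⁻¹ᵁ V.1).ι
  refine C.good_of_cover (J := J) (fun W => IsOpenImmersion.lift (u ⁻¹ᵁ V.1).ι W.1.2.fromSpec (hrange _ W.1.2 W.2))
    (fun x => ?_) _ fun W => (key _ W.1.2 W.2 _ (IsOpenImmersion.lift_fac _ _ _)).2 (h _ W.1.2 W.2)
  obtain ⟨_, ⟨W, hW, rfl⟩, hx, hWle⟩ :=
    T.isBasis_affineOpens.exists_subset_of_mem_open (show x.1 ∈ u ⁻¹ᵁ V.1 from x.2) (u ⁻¹ᵁ V.1).isOpen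
  obtain ⟨p, hp⟩ : x.1 ∈ Set.range hW.fromSpec := by
    rw [hW.range_fromSpec]
    exact hx
  refine ⟨⟨⟨W, hW⟩, hWle⟩, p, (u ⁻¹ᵁ V.1).ι.isOpenEmbedding.injective ?_⟩
  rw [← Scheme.Hom.comp_apply, IsOpenImmersion.lift_fac]
  exact hp

end Chart

variable [IsProper f] [LocallyOfFinitePresentation f] (hfp : CohB1.IsFP M) (hfl : FlatMod.IsFlatOver f M)

include hfp hfl in
theorem nonempty_chart (V : S.affineOpens) : Nonempty (Chart f M r V) := by
  haveI : HasInjectiveResolutions X.Modules := KFlatLib.hasInjectiveResolutions_modules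
  obtain ⟨A₀, _, hA, φ, P, hP, X₀, _, F₀, gm, hp₀, hF₀, hP₀, hsq, ⟨em⟩⟩ := exists_isFpModel_data hfp hfl V.2
  haveI := hp₀
  haveI := hA
  have hfl' := QCoh.flat_of_isBCModel hP₀
  have hepi := (QCoh.isExactT_of_isZero (P := P) (q := 1) (hP₀.2.2.2.1 1 one_pos)).2
  have hmono := (FlatCxLib.preservesEpi_iff_preservesMono hfl' (show -((0 : ℕ) : ℤ) + 1 = 1 by simp)).1 hepi
  obtain ⟨h1, h2⟩ := QCoh.corep_iff (fun i => ⟨hP₀.1 i, hfl' i⟩) (-((0 : ℕ) : ℤ))
  obtain ⟨Q₀, ⟨e⟩⟩ := h1.1 hmono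
  haveI := h2 Q₀ ⟨e⟩
  refine ⟨⟨CommRingCat.of A₀, hA, CommRingCat.ofHom φ, Q₀, ‹_›,
    fun T XT u fT gT hT W hW hle => (affine_iff f M r hfp hfl hF₀ hP₀ hsq em e hT hW hle).1,
    fun T XT u fT gT hT W hW hle => (affine_iff f M r hfp hfl hF₀ hP₀ hsq em e hT hW hle).2, fun y hy => ?_⟩⟩
  let ψ : A₀ →+* S.residueField y := (QCoh.evalV y hy).comp φ
  obtain ⟨eB⟩ := nonempty_corep_bc ψ e
  obtain ⟨l⟩ := nonempty_homology_dual eB
  show _ = Module.finrank (S.residueField y) ((ModuleCat.extendScalars ψ).obj Q₀)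
  rw [(hP.2.2.2.2.2 0 y hy).1, ← QCoh.finrank_bc_eq_dRank ψ P _ ?_ _, LinearEquiv.finrank_eq l,
    Subspace.dual_finrank_eq]
  ext a
  exact (RingHom.mem_ker).trans ((RingHom.mem_ker (f := QCoh.evalV y hy)).symm.trans (by
    rw [QCoh.ker_evalV V.2 hy]; rfl))

theorem cond_of_good (hM : Coh.IsQCoh M) {T XT : Scheme.{u}} {u : T ⟶ S} {fT : XT ⟶ T} {gT : XT ⟶ X}
    (hT : IsPullback gT fT f u)
    (h : ∀ t : T, ∃ (V : S.affineOpens) (C : Chart f M r V), u t ∈ V.1 ∧ C.Good (u ∣_ V.1)) : Cond M r fT gT := by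
  have hMT := QCoh.isQCoh_pullback gT hM
  haveI : QuasiCompact fT := MorphismProperty.of_isPullback hT inferInstance
  haveI : QuasiSeparated fT := MorphismProperty.of_isPullback hT inferInstance
  have hloc : ∀ t : T, ∃ (W : T.Opens), IsAffineOpen W ∧ t ∈ W ∧
      IsProjRank Γ(T, W) r Γ((Scheme.Modules.pushforward fT).obj ((Scheme.Modules.pullback gT).obj M), W) ∧
      HasKerBC fT ((Scheme.Modules.pullback gT).obj M) W := fun t => by
    obtain ⟨V, C, ht, hC⟩ := h t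
    obtain ⟨_, ⟨W, hW, rfl⟩, htW, hWle⟩ :=
      T.isBasis_affineOpens.exists_subset_of_mem_open (show t ∈ u ⁻¹ᵁ V.1 from ht) (u ⁻¹ᵁ V.1).isOpen
    exact ⟨W, hW, htW, C.ofW hT hW hWle ((C.good_restrict_iff u).1 hC W hW hWle)⟩
  choose W hW htW hkey using hloc
  refine ⟨?_, fun X'' T' v' f'' u' hsq => isIso_bc0_of_hasKerBC hsq hMT fun x =>
    ⟨W (u' x), htW _, (hkey _).2⟩⟩
  refine ConsPropLib.isFinLocFreeOfRank_of_cover (fun t => (hW t).fromSpec) (fun t => ⟨t, ?_⟩) fun t => ?_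
  · rw [(hW t).range_fromSpec]
    exact htW t
  · let G := (Scheme.Modules.pushforward fT).obj ((Scheme.Modules.pullback gT).obj M)
    let N := G.restrict (hW t).fromSpec
    haveI : IsIso N.fromTildeΓ :=
      (isQuasicoherent_iff_isIso_fromTildeΓ N).1 (QCoh.isQCoh_restrict _ (QCoh.isQCoh_pushforward fT hMT))
    rw [← ConsPropLib.isFinLocFreeOfRank_iso (asIso N.fromTildeΓ), ConsPropLib.isFinLocFreeOfRank_tilde_iff]
    exact IsProjRank.of_equiv (QCoh.chartEquiv (hW t) G) (hkey t).1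

theorem cond_iff_good (hM : Coh.IsQCoh M) (C : ∀ V : S.affineOpens, Chart f M r V) {T XT : Scheme.{u}} {u : T ⟶ S}
    {fT : XT ⟶ T} {gT : XT ⟶ X} (hT : IsPullback gT fT f u) :
    Cond M r fT gT ↔ ∀ V, (C V).Good (u ∣_ V.1) := by
  refine ⟨fun h V => ((C V).good_restrict_iff u).2 fun W hW hle => (C V).toW hT hW hle h,
    fun h => cond_of_good hM hT fun t => ?_⟩
  obtain ⟨_, ⟨V, hV, rfl⟩, ht, -⟩ := S.isBasis_affineOpens.exists_subset_of_mem_open (Set.mem_univ (u t)) isOpen_univ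
  exact ⟨⟨V, hV⟩, C _, ht, h _⟩

theorem range_eq_of_universal (C : ∀ V : S.affineOpens, Chart f M r V) {Z : Scheme.{u}} (j : Z ⟶ S) [IsImmersion j]
    (hj : ∀ ⦃T : Scheme.{u}⦄ (u : T ⟶ S), (∃ l, l ≫ j = u) ↔ ∀ V, (C V).Good (u ∣_ V.1))
    (hstab : ∀ (V : S.affineOpens) ⦃T : Scheme.{u}⦄ (v : T ⟶ (V.1 : Scheme.{u})),
      (∀ V', (C V').Good ((v ≫ V.1.ι) ∣_ V'.1)) ↔ (C V).Good v) :
    Set.range j = {s : S | CohIII.fiberRank f M 0 s = r} := by
  have hpt : ∀ s, (∃ l, l ≫ j = S.fromSpecResidueField s) ↔ CohIII.fiberRank f M 0 s = r := fun s => by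
    obtain ⟨_, ⟨V₀, hV₀, rfl⟩, hs, -⟩ := S.isBasis_affineOpens.exists_subset_of_mem_open (Set.mem_univ s) isOpen_univ
    let V : S.Opens := V₀
    have hV : IsAffineOpen V := hV₀
    let V' : S.affineOpens := ⟨V, hV⟩
    have hV' : IsAffineOpen V := hV
    let v : Spec (S.residueField s) ⟶ (V : Scheme.{u}) := Spec.map (S.evaluation V s hs) ≫ hV'.isoSpec.inv
    have hv : v ≫ V.ι = S.fromSpecResidueField s := by
      show (Spec.map (S.presheaf.germ V s hs ≫ S.residue s) ≫ hV'.isoSpec.inv) ≫ V.ι = _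
      rw [Spec.map_comp, Category.assoc, Category.assoc, Scheme.fromSpecResidueField]
      exact congrArg (Spec.map (S.residue s) ≫ ·) (hV'.fromSpecStalk_eq_fromSpecStalk hs)
    rw [hj, ← hv, hstab V', (C V').rank s hs]
    let ψ := (C V').φ ≫ S.evaluation V s hs
    have hc : Spec.map ψ = v ≫ (C V').c := by
      rw [Chart.c, Category.assoc, Iso.inv_hom_id_assoc, Spec.map_comp]
    haveI := (C V').fin
    haveI : Module.Finite (S.residueField s) ((ModuleCat.extendScalars ψ.hom).obj (C V').Q) := by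
      letI := ψ.hom.toAlgebra
      exact inferInstanceAs (Module.Finite (S.residueField s) (TensorProduct (C V').A (S.residueField s) (C V').Q))
    refine (ConsPropLib.isFinLocFreeOfRank_iso ((Scheme.Modules.pullbackCongr hc.symm).app _ ≪≫
      (QCoh.tildePullbackIso ψ).app (C V').Q)).trans
        ((ConsPropLib.isFinLocFreeOfRank_tilde_iff _ r).trans ?_)
    have hr : ∀ x, Module.rankAtStalk (R := S.residueField s) ((ModuleCat.extendScalars ψ.hom).obj (C V').Q) x =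
        Module.finrank (S.residueField s) ((ModuleCat.extendScalars ψ.hom).obj (C V').Q) :=
      fun x => congrFun Module.rankAtStalk_eq_finrank_of_free x
    exact ⟨fun h => (hr (default : PrimeSpectrum (S.residueField s))).symm.trans (h.2.2 default),
      fun h => ⟨inferInstance, inferInstance, fun x => (hr x).trans h⟩⟩
  ext s
  refine ⟨?_, fun h => ?_⟩
  · rintro ⟨z, rfl⟩
    refine (hpt _).1 ?_
    haveI : IsIso (j.residueFieldMap z) :=
      (ConcreteCategory.isIso_iff_bijective _).2 ⟨(j.residueFieldMap z).hom.injective, fun a => by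
        obtain ⟨b, rfl⟩ := Z.residue_surjective z a
        obtain ⟨c, rfl⟩ := j.stalkMap_surjective z b
        exact ⟨S.residue (j z) c, congr($(Scheme.residue_residueFieldMap j z) c)⟩⟩
    exact ⟨inv (Spec.map (j.residueFieldMap z)) ≫ Z.fromSpecResidueField z, by
      rw [Category.assoc, IsIso.inv_comp_eq, Scheme.Hom.SpecMap_residueFieldMap_fromSpecResidueField]⟩
  · obtain ⟨l, hl⟩ := (hpt s).2 h
    refine ⟨l (IsLocalRing.closedPoint (S.residueField s)), ?_⟩
    rw [← Scheme.Hom.comp_apply, hl, Scheme.fromSpecResidueField_apply]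

include hfp hfl in
/-- The stratum of points where the direct image is locally free of rank `r`, compatibly with base change. -/
theorem exists_stratum :
    ∃ (Z : Scheme.{u}) (j : Z ⟶ S), IsImmersion j ∧ LocallyOfFinitePresentation j ∧ QuasiCompact j ∧
      (∀ (T XT : Scheme.{u}) (u : T ⟶ S) (fT : XT ⟶ T) (gT : XT ⟶ X), IsPullback gT fT f u →
        ((∃ l : T ⟶ Z, l ≫ j = u) ↔ Cond M r fT gT)) ∧
      Set.range j = {s : S | CohIII.fiberRank f M 0 s = r} := by
  have hM := QCoh.isQCoh_of_isFP hfp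
  let C : ∀ V : S.affineOpens, Chart f M r V := fun V => (nonempty_chart hfp hfl V).some
  let Good' : ∀ ⦃T : Scheme.{u}⦄, (T ⟶ S) → Prop := fun T u => ∀ V, (C V).Good (u ∣_ V.1)
  have hstab : ∀ ⦃T T' : Scheme.{u}⦄ (a : T' ⟶ T) (u : T ⟶ S), Good' u → Good' (a ≫ u) := fun T T' a u h V => by
    show (C V).Good _
    rw [morphismRestrict_comp]
    exact (C V).good_comp _ _ (h V)
  have hloc : ∀ ⦃T : Scheme.{u}⦄ (𝒰 : Scheme.OpenCover.{u} T) (u : T ⟶ S),
      (∀ i, Good' (𝒰.f i ≫ u)) → Good' u := fun T 𝒰 u h V => by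
    refine (C V).good_of_cover (fun i => 𝒰.f i ∣_ (u ⁻¹ᵁ V.1)) (fun x => ?_) _ fun i => ?_
    · obtain ⟨i, t, ht⟩ := 𝒰.exists_eq x.1
      refine ⟨i, ⟨t, show u (𝒰.f i t) ∈ V.1 from ht ▸ x.2⟩, Subtype.ext ?_⟩
      exact (congr($(morphismRestrict_ι (𝒰.f i) (u ⁻¹ᵁ V.1)) _)).trans ht
    · have := h i V
      rwa [morphismRestrict_comp] at this
  have hres : ∀ (V : S.affineOpens) ⦃T : Scheme.{u}⦄ (v : T ⟶ (V.1 : Scheme.{u})),
      Good' (v ≫ V.1.ι) ↔ (C V).Good v := fun V T v => by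
    let u := v ≫ V.1.ι
    let O : T.Opens := u ⁻¹ᵁ V.1
    have hv : O.ι ≫ v = u ∣_ V.1 := by
      rw [← cancel_mono V.1.ι, morphismRestrict_ι, Category.assoc]
    refine ⟨fun h => (C V).good_of_cover (fun _ : Unit => O.ι) (fun x => ⟨(), ?_⟩) _ fun _ => hv.symm ▸ h V,
      fun h => ?_⟩
    · rw [Scheme.Opens.range_ι]
      exact (v x).2
    · -- the conditions over the other charts follow through the direct image
      refine (cond_iff_good hM C (IsPullback.of_hasPullback f u)).1 ?_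
      have hg : (C V).Good (u ∣_ V.1) := hv ▸ (C V).good_comp _ _ h
      exact cond_of_good hM (IsPullback.of_hasPullback f u) fun t => ⟨V, C V, (v t).2, hg⟩
  haveI : ∀ V : S.affineOpens, IsLocallyNoetherian (Spec (C V).A) := fun V => by
    haveI := (C V).noeth
    infer_instance
  have hz₀ : ∀ V : S.affineOpens, ∃ (Z : Scheme.{u}) (z : Z ⟶ (V.1 : Scheme.{u})),
      (IsImmersion z ∧ LocallyOfFinitePresentation z ∧ QuasiCompact z) ∧
      ∀ ⦃T : Scheme.{u}⦄ (v : T ⟶ (V.1 : Scheme.{u})), (∃ l, l ≫ z = v) ↔ (C V).Good v := fun V => by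
    haveI := (C V).noeth
    haveI := (C V).fin
    haveI : Coh.IsQCoh (tilde (C V).Q) := show Coh.IsQCoh _ from inferInstance
    obtain ⟨Z₀, z₀, _, hz⟩ := S10847.result (tilde (C V).Q) ((QCoh.isFT_tilde_iff _).2 ‹_›) r
    haveI : IsLocallyNoetherian Z₀ := LocallyOfFiniteType.isLocallyNoetherian z₀
    haveI : QuasiCompact z₀ := by
      haveI : NoetherianSpace Z₀ := z₀.isEmbedding.isInducing.noetherianSpace
      infer_instance
    haveI : LocallyOfFinitePresentation z₀ := inferInstance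
    refine ⟨Limits.pullback (C V).c z₀, Limits.pullback.fst _ _,
      ⟨MorphismProperty.pullback_fst _ _ ‹_›, MorphismProperty.pullback_fst _ _ ‹_›,
        MorphismProperty.pullback_fst _ _ ‹_›⟩, fun T v => ?_⟩
    refine Iff.trans ?_ (hz T (v ≫ (C V).c))
    exact ⟨fun ⟨l, hl⟩ => ⟨l ≫ Limits.pullback.snd _ _, by rw [← hl, Category.assoc, Category.assoc, Limits.pullback.condition]⟩,
      fun ⟨g, hg⟩ => ⟨Limits.pullback.lift v g hg.symm, Limits.pullback.lift_fst _ _ _⟩⟩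
  choose Z z hz hzu using hz₀
  haveI : ∀ V, IsImmersion (z V) := fun V => (hz V).1
  obtain ⟨W, j, -, huniv, hQ⟩ := LocRepX.exists_representing Good' hstab hloc (fun V : S.affineOpens => V.1)
    (iSup_affineOpens_eq_top S) Z z fun V T v => (hzu V v).trans (hres V v).symm
  haveI : IsImmersion j := hQ @IsImmersion fun V => (hz V).1
  refine ⟨W, j, inferInstance, hQ @LocallyOfFinitePresentation fun V => (hz V).2.1, hQ @QuasiCompact fun V => (hz V).2.2,
    fun T XT u fT gT hT => (huniv u).trans (cond_iff_good hM C hT).symm, range_eq_of_universal C j huniv hres⟩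

end Groth.Agent.StratX
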