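import Groth.Agent.CohPullX.FpModelT

/-!
# Models after base change
-/

set_option autoImplicit false
set_option linter.style.haveILetI false
set_option linter.unusedSectionVars false
set_option backward.isDefEq.respectTransparency false
set_option backward.isDefEq.respectTransparency.types false
set_option maxHeartbeats 1000000

universe u

open CategoryTheory CategoryTheory.Limits AlgebraicGeometry TopologicalSpace Opposite

namespace Groth.Agent.StratX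

open Groth.Agent CohPullX

/-- The properties of a finite free model follow from those over the noetherian base. -/
theorem isFpModel_of_data {X S : Scheme.{u}} {f : X ⟶ S} {M : X.Modules} [IsProper f]
    [HasInjectiveResolutions X.Modules] (hM : Coh.IsQCoh M)
    {A₀ : Type u} [CommRing A₀] [IsNoetherianRing A₀] {V : S.Opens} {hV : IsAffineOpen V}
    {φ : A₀ →+* Γ(S, V)} {P : ChainComplex (ModuleCat.{u} A₀) ℤ}
    {X₀ : Scheme.{u}} [X₀.Over (Spec (CommRingCat.of A₀))] [IsProper (X₀ ↘ Spec (CommRingCat.of A₀))]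
    {F₀ : X₀.Modules} (hP : QCoh.IsBCModel F₀ P) {g : ((f ⁻¹ᵁ V : X.Opens) : Scheme.{u}) ⟶ X₀}
    (hsq : IsPullback g (QCoh.overSpec f hV) (X₀ ↘ Spec (CommRingCat.of A₀)) (Spec.map (CommRingCat.ofHom φ)))
    (e : (Scheme.Modules.pullback g).obj F₀ ≅ (Scheme.Modules.pullback (f ⁻¹ᵁ V).ι).obj M) :
    IsFpModel f M hV φ P := by
  refine ⟨hP.1, hP.2.1, hP.2.2.1, hP.2.2.2.1, fun V' hle hV' p => ?_, fun p y hy => ?_⟩
  · let ψ := (S.presheaf.map (homOfLE hle).op).hom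
    have hψ : Spec.map (CommRingCat.ofHom ψ) ≫ hV.fromSpec = hV'.fromSpec := hV.map_fromSpec hV' (homOfLE hle).op
    have hbig : IsPullback (f ⁻¹ᵁ V').ι (QCoh.overSpec f hV') f (Spec.map (CommRingCat.ofHom ψ) ≫ hV.fromSpec) := by
      rw [hψ]; exact QCoh.isPullback_overSpec (f := f) hV'
    obtain ⟨e₂⟩ := nonempty_bc_equiv hP hsq e Γ(S, V') ψ (f ⁻¹ᵁ V').ι (QCoh.overSpec f hV') hbig p
    obtain ⟨e₁⟩ := QCoh.nonempty_sections_HH (f := f) hM hV' p
    rw [← QCoh.toGlobal_overSpec f hV'] at e₁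
    let eR : M.restrict (f ⁻¹ᵁ V').ι ≅ (Scheme.Modules.pullback (f ⁻¹ᵁ V').ι).obj M :=
      (Scheme.Modules.restrictFunctorIsoPullback _).app M
    exact ⟨e₁.trans ((QCoh.HHcongr (Coh.toGlobal (QCoh.overSpec f hV')) eR p).trans e₂)⟩
  · let χ := QCoh.evalV y hy
    have hχ : Spec.map (CommRingCat.ofHom χ) ≫ hV.fromSpec = S.fromSpecResidueField y := by
      show Spec.map (S.presheaf.germ V y hy ≫ S.residue y) ≫ _ = _
      rw [Spec.map_comp, Category.assoc, Scheme.fromSpecResidueField]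
      exact congrArg (Spec.map (S.residue y) ≫ ·) (hV.fromSpecStalk_eq_fromSpecStalk hy)
    have hbig : IsPullback (f.fiberι y) (f.fiberToSpecResidueField y) f
        (Spec.map (CommRingCat.ofHom χ) ≫ hV.fromSpec) := by
      rw [hχ]; exact IsPullback.of_hasPullback _ _
    obtain ⟨e₂⟩ := nonempty_bc_equiv hP hsq e (S.residueField y) χ (f.fiberι y)
      (f.fiberToSpecResidueField y) hbig p
    haveI := QCoh.finite_homology_bc (χ.comp φ) P hP.1 (-(p : ℤ))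
    refine ⟨(LinearEquiv.finrank_eq e₂).trans (QCoh.finrank_bc_eq_dRank (χ.comp φ) P _ ?_ _),
      Module.Finite.equiv e₂.symm⟩
    ext a
    exact (RingHom.mem_ker).trans
      ((RingHom.mem_ker (f := χ)).symm.trans (by rw [QCoh.ker_evalV hV hy]; rfl))

/-- The noetherian data pulled back along `u`. -/
theorem exists_data_pullback {X S T XT : Scheme.{u}} {f : X ⟶ S} {M : X.Modules} {u : T ⟶ S} {fT : XT ⟶ T} {v : XT ⟶ X}
    (hT : IsPullback v fT f u)
    {A₀ : Type u} [CommRing A₀] {V : S.Opens} {hV : IsAffineOpen V} {φ : A₀ →+* Γ(S, V)}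
    {X₀ : Scheme.{u}} [X₀.Over (Spec (CommRingCat.of A₀))]
    {F₀ : X₀.Modules} {g : ((f ⁻¹ᵁ V : X.Opens) : Scheme.{u}) ⟶ X₀}
    (hsq : IsPullback g (QCoh.overSpec f hV) (X₀ ↘ Spec (CommRingCat.of A₀)) (Spec.map (CommRingCat.ofHom φ)))
    (e : (Scheme.Modules.pullback g).obj F₀ ≅ (Scheme.Modules.pullback (f ⁻¹ᵁ V).ι).obj M)
    {W : T.Opens} (hW : IsAffineOpen W) (hle : W ≤ u ⁻¹ᵁ V) :
    ∃ g' : ((fT ⁻¹ᵁ W : XT.Opens) : Scheme.{u}) ⟶ X₀,
      IsPullback g' (QCoh.overSpec fT hW) (X₀ ↘ Spec (CommRingCat.of A₀))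
        (Spec.map (CommRingCat.ofHom ((u.appLE V W hle).hom.comp φ))) ∧
      Nonempty ((Scheme.Modules.pullback g').obj F₀ ≅
        (Scheme.Modules.pullback (fT ⁻¹ᵁ W).ι).obj
          ((Scheme.Modules.pullback v).obj M)) := by
  let ψ : Γ(S, V) ⟶ Γ(T, W) := u.appLE V W hle
  have hψ : Spec.map ψ ≫ hV.fromSpec = hW.fromSpec ≫ u := hV.SpecMap_appLE_fromSpec u hW hle
  have hpb := QCoh.isPullback_overSpec (f := f) hV
  have hp' := QCoh.isPullback_overSpec (f := fT) hW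
  have h : IsPullback ((fT ⁻¹ᵁ W).ι ≫ v) (QCoh.overSpec fT hW) f (Spec.map ψ ≫ hV.fromSpec) := by
    rw [hψ]
    exact hp'.paste_horiz hT
  let g₁ : ((fT ⁻¹ᵁ W : XT.Opens) : Scheme.{u}) ⟶ ((f ⁻¹ᵁ V : X.Opens) : Scheme.{u}) :=
    hpb.lift ((fT ⁻¹ᵁ W).ι ≫ v) (QCoh.overSpec fT hW ≫ Spec.map ψ) (by rw [Category.assoc _ (Spec.map ψ)]; exact h.w)
  have hg : g₁ ≫ (f ⁻¹ᵁ V).ι = (fT ⁻¹ᵁ W).ι ≫ v := hpb.lift_fst _ _ _
  have hsq' : IsPullback g₁ (QCoh.overSpec fT hW) (QCoh.overSpec f hV) (Spec.map ψ) :=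
    IsPullback.of_right (by rw [hg]; exact h) (hpb.lift_snd _ _ _) hpb
  refine ⟨g₁ ≫ g, ?_, ⟨?_⟩⟩
  · rw [CommRingCat.ofHom_comp, Spec.map_comp]
    exact hsq'.paste_horiz hsq
  · exact ((Scheme.Modules.pullbackComp g₁ g).app F₀).symm ≪≫ (Scheme.Modules.pullback g₁).mapIso e ≪≫
      (Scheme.Modules.pullbackComp g₁ (f ⁻¹ᵁ V).ι).app M ≪≫ (Scheme.Modules.pullbackCongr hg).app M ≪≫
      ((Scheme.Modules.pullbackComp (fT ⁻¹ᵁ W).ι v).app M).symm

end Groth.Agent.StratX
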