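import Groth.Agent.StratX.Corep
import Groth.Agent.StratX.Data
import Groth.Agent.StratX.Sheaf
import Groth.Agent.CohPullX.EpiFibre
import Groth.Agent.KFlatLib.Scheme.RpushQCoh

/-!
# The stratum condition over an affine open
-/

set_option autoImplicit false
set_option linter.style.haveILetI false
set_option linter.unusedSectionVars false
set_option backward.isDefEq.respectTransparency false
set_option backward.isDefEq.respectTransparency.types false
set_option maxHeartbeats 2000000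

universe u

open CategoryTheory CategoryTheory.Limits AlgebraicGeometry TopologicalSpace Opposite

namespace Groth.Agent.StratX

open Groth.Agent CohPullX

variable {X S : Scheme.{u}} (f : X ⟶ S) (M : X.Modules) (r : ℕ)

/-- The direct image along `fT` of the pullback along `gT` is locally free of rank `r`, compatibly with further
base change. -/
def Cond {T XT : Scheme.{u}} (fT : XT ⟶ T) (gT : XT ⟶ X) : Prop :=
  FlatMod.IsFinLocFreeOfRank r ((Scheme.Modules.pushforward fT).obj ((Scheme.Modules.pullback gT).obj M)) ∧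
    ∀ ⦃X'' T' : Scheme.{u}⦄ (v' : X'' ⟶ XT) (f'' : X'' ⟶ T') (u' : T' ⟶ T) (h : IsPullback v' f'' fT u'),
      IsIso (CohBC.bc0 fT u' f'' v' h.w ((Scheme.Modules.pullback gT).obj M))

theorem appLE_self_hom {T : Scheme.{u}} {W : T.Opens} :
    (T.presheaf.map (homOfLE (le_refl W)).op).hom = RingHom.id _ := by
  rw [show (homOfLE (le_refl W)).op = 𝟙 _ from rfl, T.presheaf.map_id]
  rfl

theorem nonempty_homology_congr {A B : Type u} [CommRing A] [CommRing B] {P : ChainComplex (ModuleCat.{u} A) ℤ}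
    (n : ℤ) {φ φ' : A →+* B} (h : φ = φ') :
    Nonempty ((CohIII.bcCx φ P).homology n ≃ₗ[B] (CohIII.bcCx φ' P).homology n) := by
  subst h
  exact ⟨LinearEquiv.refl _ _⟩

/-- The restriction of the condition to an affine open `W` of the source lying over `V`. -/
theorem affine_iff [IsProper f] [LocallyOfFinitePresentation f] (hfp : CohB1.IsFP M) (hfl : FlatMod.IsFlatOver f M)
    {V : S.Opens} {hV : IsAffineOpen V} {A₀ : Type u} [CommRing A₀] [IsNoetherianRing A₀] {φ : A₀ →+* Γ(S, V)}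
    {P : ChainComplex (ModuleCat.{u} A₀) ℤ} {X₀ : Scheme.{u}} [X₀.Over (Spec (CommRingCat.of A₀))]
    [IsProper (X₀ ↘ Spec (CommRingCat.of A₀))] {F₀ : X₀.Modules} (hF₀ : Coh.IsQCoh F₀)
    (hP : QCoh.IsBCModel F₀ P) {gm : ((f ⁻¹ᵁ V : X.Opens) : Scheme.{u}) ⟶ X₀}
    (hsq : IsPullback gm (QCoh.overSpec f hV) (X₀ ↘ Spec (CommRingCat.of A₀)) (Spec.map (CommRingCat.ofHom φ)))
    (em : (Scheme.Modules.pullback gm).obj F₀ ≅ (Scheme.Modules.pullback (f ⁻¹ᵁ V).ι).obj M)
    {Q₀ : ModuleCat.{u} A₀} [Module.Finite A₀ Q₀]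
    (e : CohIII.TFun P (-((0 : ℕ) : ℤ)) ≅ (linearCoyoneda A₀ (ModuleCat.{u} A₀)).obj (op Q₀))
    {T XT : Scheme.{u}} {u : T ⟶ S} {fT : XT ⟶ T} {vT : XT ⟶ X} (hT : IsPullback vT fT f u)
    {W : T.Opens} (hW : IsAffineOpen W) (hle : W ≤ u ⁻¹ᵁ V) :
    (Cond M r fT vT → IsProjRank Γ(T, W) r ((ModuleCat.extendScalars ((u.appLE V W hle).hom.comp φ)).obj Q₀)) ∧
      (IsProjRank Γ(T, W) r ((ModuleCat.extendScalars ((u.appLE V W hle).hom.comp φ)).obj Q₀) →
        IsProjRank Γ(T, W) r Γ((Scheme.Modules.pushforward fT).obj ((Scheme.Modules.pullback vT).obj M), W) ∧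
        HasKerBC fT ((Scheme.Modules.pullback vT).obj M) W) := by
  let MT := (Scheme.Modules.pullback vT).obj M
  have hM := QCoh.isQCoh_of_isFP hfp
  have hMT : Coh.IsQCoh MT := QCoh.isQCoh_pullback vT hM
  have hfpT : CohB1.IsFP MT := LimModLib.isFP_pullback vT hM hfp
  have hflT : FlatMod.IsFlatOver fT MT := fun x =>
    MorLib.FlatBC.isFlatOverAt_baseChange f fT vT u hT M x (hfl _)
  haveI : IsProper fT := MorphismProperty.of_isPullback hT ‹_›
  haveI : LocallyOfFinitePresentation fT := MorphismProperty.of_isPullback hT ‹_›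
  haveI : HasInjectiveResolutions XT.Modules := KFlatLib.hasInjectiveResolutions_modules
  haveI := SpObjSS.enoughInjectives_of_hasInjectiveResolutions (C := XT.Modules)
  haveI := QCoh.preservesFiniteLimits_push fT
  let G := (Scheme.Modules.pushforward fT).obj MT
  let χ : A₀ →+* Γ(T, W) := (u.appLE V W hle).hom.comp φ
  let Q : ModuleCat.{u} Γ(T, W) := (ModuleCat.extendScalars χ).obj Q₀
  haveI : Module.Finite Γ(T, W) Q := by
    letI := χ.toAlgebra
    exact inferInstanceAs (Module.Finite Γ(T, W) (TensorProduct A₀ Γ(T, W) Q₀))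
  obtain ⟨g', hsq', ⟨e'⟩⟩ := exists_data_pullback hT hsq em hW hle
  have haff : ((CohIII.TFun (CohIII.bcCx χ P) (-((0 : ℕ) : ℤ))).PreservesEpimorphisms ∧ IsProjRank Γ(T, W) r Γ(G, W)) ↔
        IsProjRank Γ(T, W) r Q := by
    obtain ⟨eB⟩ := nonempty_corep_bc χ e
    obtain ⟨l⟩ := (isFpModel_of_data hMT hP hsq' e').2.2.2.2.1 W le_rfl hW 0
    obtain ⟨l'⟩ := nonempty_homology_congr (P := P) (-((0 : ℕ) : ℤ))
      (show ((T.presheaf.map (homOfLE (le_refl W)).op).hom.comp χ) = χ by rw [appLE_self_hom, RingHom.id_comp])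
    let i : (Coh.Rpush fT 0).obj MT ≅ G := (Scheme.Modules.pushforward fT).rightDerivedZeroIsoSelf.app MT
    let lG : Γ(G, W) ≃ₗ[Γ(T, W)] Γ((Coh.Rpush fT 0).obj MT, W) :=
      { toFun := i.inv.app W
        invFun := i.hom.app W
        left_inv := fun x => congr(($(i.inv_hom_id)).app W x)
        right_inv := fun x => congr(($(i.hom_inv_id)).app W x)
        map_add' := fun a b => map_add (i.inv.app W).hom a b
        map_smul' := fun a x => Scheme.Modules.Hom.app_smul i.inv a x }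
    constructor
    · rintro ⟨he, hG⟩
      exact ⟨inferInstance, (rank_iff eB r).1 ⟨he, IsProjRank.of_equiv ((lG.trans l).trans l') hG⟩⟩
    · rintro ⟨-, hQ⟩
      obtain ⟨he, hH⟩ := (rank_iff eB r).2 hQ
      exact ⟨he, IsProjRank.of_equiv ((lG.trans l).trans l').symm hH⟩
  refine ⟨fun hc => ?_, fun hQ => ?_⟩
  · obtain ⟨hG, hbc⟩ := hc
    refine haff.1 ⟨?_, (isFinLocFreeOfRank_iff_sections (QCoh.isQCoh_pushforward fT hMT)).1 hG W hW⟩
    refine preservesEpi_of_locCx (fun i => ?_) fun x => ?_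
    · exact @Module.Flat.of_free _ _ _ _ _ (free_fp_bcCx_X P χ i (hP.1 i) (hP.2.1 i)).1
    obtain ⟨y, hy, rfl⟩ := QCoh.exists_point hW x
    have hs : Epi (CohBC.bc0 fT (T.fromSpecResidueField y) (fT.fiberToSpecResidueField y) (fT.fiberι y)
        (fT.fiber_fac y) MT) := by
      haveI := hbc (fT.fiberι y) (fT.fiberToSpecResidueField y) (T.fromSpecResidueField y)
        (IsPullback.of_hasPullback fT (T.fromSpecResidueField y))
      infer_instance
    exact preservesEpi_locCx_of_epi hfpT hflT hW (isFpModel_of_data hMT hP hsq' e') hF₀ hP hsq' e' hy hs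
  · refine ⟨(haff.2 hQ).2, hasKerBC_of_preservesEpi hMT hflT hW ?_⟩
    intro κ _ U' hcov hU'
    letI : ((fT ⁻¹ᵁ W : XT.Opens) : Scheme.{u}).Over (Spec (CommRingCat.of Γ(T, W))) :=
      ⟨QCoh.overSpec fT hW⟩
    have hid : IsPullback (fT ⁻¹ᵁ W).ι (((fT ⁻¹ᵁ W : XT.Opens) : Scheme.{u}) ↘ Spec (CommRingCat.of Γ(T, W))) fT
        (Spec.map (CommRingCat.ofHom (RingHom.id Γ(T, W))) ≫ hW.fromSpec) := by
      rw [show CommRingCat.ofHom (RingHom.id Γ(T, W)) = 𝟙 _ from rfl, Spec.map_id, Category.id_comp]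
      exact QCoh.isPullback_overSpec (f := fT) hW
    obtain ⟨j₁⟩ := nonempty_tfun_bc_iso hF₀ hP hsq' e' Γ(T, W) (RingHom.id _) (fT ⁻¹ᵁ W).ι hid 0
    obtain ⟨j₂⟩ := QCoh.nonempty_tfun_iso (A := Γ(T, W)) _ (QCoh.isQCoh_pullback (fT ⁻¹ᵁ W).ι hMT) hcov hU' 0
    exact preservesEpi_of_forget_iso (j₁ ≪≫ j₂.symm) (haff.2 hQ).1

end Groth.Agent.StratX
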