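import Groth.Agent.QCoh.Corep
import Groth.Agent.QCoh.BcT
import Groth.Agent.CohPullX.EpiFibre
import Groth.Agent.GrpSchLib.EigenPairing
import Mathlib.RingTheory.Flat.Localization
import Mathlib.RingTheory.Localization.BaseChange

/-!
# When the corepresenting module of `T⁰` is projective of given rank
-/

set_option autoImplicit false
set_option linter.style.haveILetI false
set_option backward.isDefEq.respectTransparency false
set_option backward.isDefEq.respectTransparency.types false

universe u

open CategoryTheory CategoryTheory.Limits Opposite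
open scoped TensorProduct

namespace Groth.Agent.StratX

variable {A B : Type u} [CommRing A] [CommRing B]

/-- Corepresentability is stable under base change. -/
theorem nonempty_corep_bc (χ : A →+* B) {P : ChainComplex (ModuleCat.{u} A) ℤ} {q : ℤ} {Q : ModuleCat.{u} A}
    (e : CohIII.TFun P q ≅ (linearCoyoneda A (ModuleCat.{u} A)).obj (op Q)) :
    Nonempty (CohIII.TFun (CohIII.bcCx χ P) q ⋙ forget₂ (ModuleCat.{u} B) AddCommGrpCat.{u} ≅
      (linearCoyoneda B (ModuleCat.{u} B)).obj (op ((ModuleCat.extendScalars χ).obj Q)) ⋙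
        forget₂ (ModuleCat.{u} B) AddCommGrpCat.{u}) := by
  obtain ⟨b⟩ := QCoh.nonempty_bcT_iso P χ q
  let ad := ModuleCat.extendRestrictScalarsAdj.{u, u, u} χ
  let t : ∀ N : ModuleCat.{u} B, ((ModuleCat.extendScalars χ).obj Q ⟶ N) ≃+ (Q ⟶ (ModuleCat.restrictScalars χ).obj N) :=
    fun N =>
      { ad.homEquiv Q N with
        map_add' := fun f g => by
          show ad.homEquiv Q N (f + g) = ad.homEquiv Q N f + ad.homEquiv Q N g
          simp only [Adjunction.homEquiv_unit, Functor.map_add, Preadditive.comp_add] }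
  exact ⟨b ≪≫ Functor.isoWhiskerLeft (ModuleCat.restrictScalars χ) (Functor.isoWhiskerRight e _) ≪≫
    (NatIso.ofComponents (fun N => (t N).toAddCommGrpIso) fun {N N'} g => AddCommGrpCat.ext fun f =>
      ad.homEquiv_naturality_right f g).symm⟩

variable {P : ChainComplex (ModuleCat.{u} B) ℤ} {q : ℤ} {Q : ModuleCat.{u} B}
  (e : CohIII.TFun P q ⋙ forget₂ (ModuleCat.{u} B) AddCommGrpCat.{u} ≅
    (linearCoyoneda B (ModuleCat.{u} B)).obj (op Q) ⋙ forget₂ (ModuleCat.{u} B) AddCommGrpCat.{u})

include e in
theorem preservesEpi_iff_projective :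
    (CohIII.TFun P q).PreservesEpimorphisms ↔ Module.Projective B Q := by
  constructor
  · intro h
    refine Module.Projective.of_lifting_property'' fun f hf => ?_
    obtain ⟨l, hl⟩ := CohPullX.surjective_map_of_forget_iso e (ModuleCat.ofHom f)
      (by
        haveI : Epi (ModuleCat.ofHom f) := (ModuleCat.epi_iff_surjective _).2 hf
        exact (ModuleCat.epi_iff_surjective _).1 inferInstance) (𝟙 Q)
    exact ⟨ModuleCat.Hom.hom l, congrArg ModuleCat.Hom.hom hl⟩
  · intro h
    refine ⟨fun {M N} g _ => (ModuleCat.epi_iff_surjective _).2 ?_⟩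
    refine CohPullX.surjective_map_of_forget_iso e.symm g fun f => ?_
    obtain ⟨l, hl⟩ := Module.projective_lifting_property g.hom (f : Q ⟶ N).hom
      ((ModuleCat.epi_iff_surjective g).1 inferInstance)
    exact ⟨ModuleCat.ofHom l, ModuleCat.hom_ext hl⟩

include e in
theorem nonempty_homology_dual : Nonempty (P.homology q ≃ₗ[B] Module.Dual B Q) := by
  let M := ModuleCat.of B B
  let a := (e.app M).addCommGroupIsoToAddEquiv
  have ha : ∀ (b : B) (x : CohIII.T P q M), a (b • x) = (show Q ⟶ M from a x) ≫ ModuleCat.ofHom (b • LinearMap.id) :=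
    fun b x => by
      rw [← QCoh.tfun_map_smul q M b x]
      exact ConcreteCategory.congr_hom (e.hom.naturality (ModuleCat.ofHom (b • LinearMap.id : M →ₗ[B] M))) x
  let l : CohIII.T P q M ≃ₗ[B] Module.Dual B Q :=
    { toFun := fun x => (show Q ⟶ M from a x).hom
      invFun := fun φ => a.symm (show Q ⟶ M from ModuleCat.ofHom φ)
      left_inv := fun x => a.symm_apply_apply x
      right_inv := fun φ => congrArg (fun z : Q ⟶ M => z.hom) (a.apply_symm_apply (show Q ⟶ M from ModuleCat.ofHom φ))
      map_add' := fun x y => congrArg (fun z : Q ⟶ M => z.hom) (a.map_add x y)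
      map_smul' := fun b x => congrArg (fun z : Q ⟶ M => z.hom) (ha b x) }
  exact ⟨((HomologicalComplex.homologyMapIso (QCoh.tensorSelfIso (P := P)) q).toLinearEquiv.symm).trans l⟩

include e in
/-- Right exactness together with a rank condition on the homology, in terms of the corepresenting module. -/
theorem rank_iff [Module.Finite B Q] (r : ℕ) :
    ((CohIII.TFun P q).PreservesEpimorphisms ∧ Module.Finite B (P.homology q) ∧
        Module.Projective B (P.homology q) ∧ ∀ x, Module.rankAtStalk (R := B) (P.homology q) x = r) ↔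
      (Module.Projective B Q ∧ ∀ x, Module.rankAtStalk (R := B) Q x = r) := by
  obtain ⟨l⟩ := nonempty_homology_dual e
  rw [preservesEpi_iff_projective e]
  refine and_congr_right fun hQ => ?_
  haveI := hQ
  have hx : ∀ x, Module.rankAtStalk (R := B) (P.homology q) x = Module.rankAtStalk Q x := fun x =>
    (congrFun (Module.rankAtStalk_eq_of_equiv l) x).trans (GrpSchLib.rankAtStalk_dual x)
  haveI : Module.Finite B (P.homology q) := Module.Finite.equiv l.symm
  haveI : Module.Projective B (P.homology q) := Module.Projective.of_equiv l.symm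
  exact ⟨fun h x => (hx x).symm.trans (h.2.2 x), fun h => ⟨‹_›, ‹_›, fun x => (hx x).trans (h x)⟩⟩

omit e in
/-- Right exactness is local on the spectrum. -/
theorem preservesEpi_of_locCx (hP : ∀ i, Module.Flat B (P.X i))
    (h : ∀ x : PrimeSpectrum B, (CohIII.TFun (QCoh.locCx P x) q).PreservesEpimorphisms) :
    (CohIII.TFun P q).PreservesEpimorphisms := by
  have hr : q - 1 + 1 = q := by lia
  rw [FlatCxLib.preservesEpi_iff hP hr]
  refine Module.flat_of_isLocalized_maximal B _
    (fun m _ => Localization.AtPrime m ⊗[B] FlatCxLib.Coker P q (q - 1))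
    (fun m _ => TensorProduct.mk B (Localization.AtPrime m) _ 1) fun m hm => ?_
  haveI : Module.Flat (Localization.AtPrime m) (Localization.AtPrime m ⊗[B] FlatCxLib.Coker P q (q - 1)) :=
    (FlatCxLib.preservesEpi_bcCx_iff P hP hr).1 (h ⟨m, hm.isPrime⟩)
  haveI : Module.Flat B (Localization.AtPrime m) := IsLocalization.flat _ m.primeCompl
  exact Module.Flat.trans B (Localization.AtPrime m) _

end Groth.Agent.StratX
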